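import Groth.Agent.FlatLoc6.SerreNormal
import Mathlib

/-!
# Reduced hypersurface sections through given height one primes of a 2-dimensional normal local domain

No derivations are needed: perturbing a non-reduced `f` by `b * h` keeps the ideal `(f, b)` and strictly
enlarges the set of height one primes containing `f`, which must stop by Artinianness of `R ⧸ (f, b)`.
-/

set_option autoImplicit false
set_option linter.style.haveILetI false

universe u

namespace Groth.Agent.ReducedCutAux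

variable {R : Type u} [CommRing R]

/-- The symbolic square of a prime. -/
noncomputable def symSq (q : Ideal R) [q.IsPrime] : Ideal R :=
  (IsLocalRing.maximalIdeal (Localization.AtPrime q) ^ 2).comap (algebraMap R (Localization.AtPrime q))

theorem sq_mem_symSq {q : Ideal R} [q.IsPrime] {x : R} (hx : x ∈ q) : x ^ 2 ∈ symSq q := by
  rw [symSq, Ideal.mem_comap, map_pow]
  exact Ideal.pow_mem_pow ((IsLocalization.AtPrime.to_map_mem_maximal_iff _ q x).2 hx) 2

theorem symSq_le (q : Ideal R) [q.IsPrime] : symSq q ≤ q := fun x hx => by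
  refine (IsLocalization.AtPrime.to_map_mem_maximal_iff (Localization.AtPrime q) q x).1 ?_
  exact Ideal.pow_le_self two_ne_zero hx

theorem mul_mem_symSq_iff {q : Ideal R} [q.IsPrime] {s x : R} (hs : s ∉ q) :
    s * x ∈ symSq q ↔ x ∈ symSq q := by
  rw [symSq, Ideal.mem_comap, Ideal.mem_comap, map_mul]
  exact Ideal.unit_mul_mem_iff_mem _
    (IsLocalization.map_units (Localization.AtPrime q) (⟨s, hs⟩ : q.primeCompl))

variable [IsDomain R] [IsNoetherianRing R]

theorem not_le_symSq {q : Ideal R} [q.IsPrime] (hq : q ≠ ⊥) : ¬ q ≤ symSq q := by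
  intro h
  have h1 : IsLocalRing.maximalIdeal (Localization.AtPrime q) ≤
      IsLocalRing.maximalIdeal (Localization.AtPrime q) • IsLocalRing.maximalIdeal (Localization.AtPrime q) := by
    rw [smul_eq_mul, ← pow_two]
    conv_lhs => rw [← Localization.AtPrime.map_eq_maximalIdeal]
    exact Ideal.map_le_iff_le_comap.2 h
  have h2 := Submodule.eq_bot_of_le_smul_of_le_jacobson_bot _ _ (IsNoetherian.noetherian _) h1
    (IsLocalRing.maximalIdeal_le_jacobson _)
  refine hq (eq_bot_iff.2 fun x hx => ?_)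
  have h3 : algebraMap R (Localization.AtPrime q) x ∈ IsLocalRing.maximalIdeal (Localization.AtPrime q) :=
    (IsLocalization.AtPrime.to_map_mem_maximal_iff _ q x).2 hx
  rw [h2, Ideal.mem_bot] at h3
  exact IsLocalization.injective (Localization.AtPrime q) q.primeCompl_le_nonZeroDivisors
    (h3.trans (map_zero _).symm)

/-- Height one primes containing an element. -/
def divSupp (f : R) : Set (PrimeSpectrum R) := {q | q.asIdeal.height = 1 ∧ f ∈ q.asIdeal}

theorem mem_minimalPrimes_of_height_one {f : R} (hf : f ≠ 0) {q : Ideal R} [q.IsPrime]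
    (hq : q.height = 1) (hfq : f ∈ q) : q ∈ (Ideal.span ({f} : Set R)).minimalPrimes := by
  refine ⟨⟨inferInstance, by rwa [Ideal.span_singleton_le_iff_mem]⟩, fun P ⟨hP, hfP⟩ hPq => ?_⟩
  by_contra hne
  haveI := hP
  have hlt : P < q := lt_of_le_of_ne hPq fun h => hne (h ▸ le_rfl)
  have h0 := Ideal.height_strict_mono_of_isPrime_of_isPrime hlt
  rw [hq, ENat.lt_one_iff_eq_zero, Ideal.height_eq_zero_iff_eq_bot] at h0
  rw [h0, Ideal.span_singleton_le_iff_mem, Ideal.mem_bot] at hfP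
  exact hf hfP

theorem finite_divSupp {f : R} (hf : f ≠ 0) : (divSupp f).Finite := by
  refine Set.Finite.of_finite_image ((Ideal.finite_minimalPrimes_of_isNoetherianRing R
    (Ideal.span ({f} : Set R))).subset ?_) fun a _ b _ h => PrimeSpectrum.ext h
  rintro _ ⟨q, ⟨hq1, hq2⟩, rfl⟩
  exact mem_minimalPrimes_of_height_one hf hq1 hq2

theorem eq_of_le_of_height_one {p q : Ideal R} [p.IsPrime] [q.IsPrime] (hp : p.height = 1)
    (hq : q.height = 1) (h : p ≤ q) : p = q := by
  by_contra hne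
  have := Ideal.height_strict_mono_of_isPrime_of_isPrime (lt_of_le_of_ne h hne)
  rw [hp, hq] at this
  exact lt_irrefl _ this

variable [IsIntegrallyClosed R]

theorem isReduced_quotient {f : R} (hf : f ≠ 0)
    (h : ∀ q ∈ divSupp f, f ∉ symSq (q : PrimeSpectrum R).asIdeal) :
    IsReduced (R ⧸ Ideal.span {f}) := by
  have hS : LocCoh.HasSk 2 R R := (FlatLoc6.R1_S2_of_normal fun p hp =>
    ⟨inferInstance, isIntegrallyClosed_of_isLocalization _ p.primeCompl
      p.primeCompl_le_nonZeroDivisors⟩).2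
  constructor
  intro z hz
  obtain ⟨n, hn⟩ := hz
  obtain ⟨x, rfl⟩ := Ideal.Quotient.mk_surjective z
  rw [← map_pow, Ideal.Quotient.eq_zero_iff_mem, Ideal.mem_span_singleton] at hn
  rw [Ideal.Quotient.eq_zero_iff_mem, Ideal.mem_span_singleton]
  by_contra hx
  let xb : QuotSMulTop f R := Submodule.Quotient.mk x
  have hmem : ∀ y : R, (Submodule.Quotient.mk y : QuotSMulTop f R) = 0 ↔ f ∣ y := fun y => by
    rw [Alg6.mem_pointwise_smul_top_iff]
    exact ⟨fun ⟨w, hw⟩ => ⟨w, hw.symm⟩, fun ⟨w, hw⟩ => ⟨w, hw.symm⟩⟩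
  obtain ⟨P, hP, hle⟩ := exists_le_isAssociatedPrime_of_isNoetherianRing R xb
    (fun h0 => hx ((hmem x).1 h0))
  haveI := hP.isPrime
  have hcol : ∀ c : R, f ∣ c * x → c ∈ P := fun c hc => hle (Submodule.mem_colon_singleton.2 (by
    rw [Submodule.mem_bot, ← Submodule.Quotient.mk_smul, hmem, smul_eq_mul]; exact hc))
  have hfP : f ∈ P := hcol f (Dvd.intro x rfl)
  have h1 : P.height = 1 := by
    refine le_antisymm (FlatLoc6.height_le_one_of_mem_ass_quot hS
      (fun u v huv => mul_left_cancel₀ hf huv) hfP hP) (Order.one_le_iff_ne_zero.2 fun h0 => hf ?_)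
    rw [Ideal.height_eq_zero_iff_eq_bot] at h0
    exact (Ideal.mem_bot).1 (h0 ▸ hfP)
  have hsimple := h ⟨P, inferInstance⟩ ⟨h1, hfP⟩
  let L := Localization.AtPrime P
  haveI : IsIntegrallyClosed L := isIntegrallyClosed_of_isLocalization _ P.primeCompl
    P.primeCompl_le_nonZeroDivisors
  haveI : IsDiscreteValuationRing L := CDiv6.isDVR_of_dim_eq_one L (by
    rw [IsLocalization.AtPrime.ringKrullDim_eq_height P, h1]; rfl)
  obtain ⟨t, ht⟩ := (IsPrincipalIdealRing.principal (IsLocalRing.maximalIdeal L)).principal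
  rw [Ideal.submodule_span_eq] at ht
  have hfm : algebraMap R L f ∈ IsLocalRing.maximalIdeal L :=
    (IsLocalization.AtPrime.to_map_mem_maximal_iff _ P f).2 hfP
  obtain ⟨w, hw⟩ := Ideal.mem_span_singleton.1 (ht ▸ hfm)
  have hwu : IsUnit w := by
    by_contra hwu
    refine hsimple (show algebraMap R L f ∈ IsLocalRing.maximalIdeal L ^ 2 from ?_)
    rw [hw, pow_two]
    exact Ideal.mul_mem_mul (ht ▸ Ideal.mem_span_singleton_self t)
      ((IsLocalRing.mem_maximalIdeal w).2 hwu)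
  have hgen : IsLocalRing.maximalIdeal L = Ideal.span {algebraMap R L f} := by
    rw [ht, hw, Ideal.span_singleton_mul_right_unit hwu]
  have hxP : algebraMap R L x ∈ IsLocalRing.maximalIdeal L := by
    refine (IsLocalization.AtPrime.to_map_mem_maximal_iff _ P x).2 ?_
    obtain ⟨c, hc⟩ := hn
    exact (inferInstance : P.IsPrime).mem_of_pow_mem n (hc ▸ P.mul_mem_right c hfP)
  rw [hgen, Ideal.mem_span_singleton] at hxP
  obtain ⟨c, hc⟩ := hxP
  obtain ⟨⟨r, s⟩, hrs⟩ := IsLocalization.surj P.primeCompl c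
  refine s.2 (hcol s ⟨r, IsLocalization.injective L P.primeCompl_le_nonZeroDivisors ?_⟩)
  rw [map_mul, map_mul, hc, ← hrs]
  ring

set_option maxHeartbeats 1000000 in
theorem exists_reduced [IsLocalRing R] (hdim : ringKrullDim R = 2) (s : Finset (Ideal R))
    (hs : ∀ p ∈ s, p.IsPrime ∧ p.height = 1) :
    ∃ f : R, f ≠ 0 ∧ (∀ p ∈ s, f ∈ p) ∧ IsReduced (R ⧸ Ideal.span {f}) := by
  classical
  rcases s.eq_empty_or_nonempty with rfl | ⟨p₀, hp₀⟩
  · refine ⟨1, one_ne_zero, by simp, ?_⟩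
    rw [Ideal.span_singleton_one]
    infer_instance
  let m := IsLocalRing.maximalIdeal R
  have hm : m.height = 2 := by
    have := IsLocalRing.maximalIdeal_height_eq_ringKrullDim (R := R)
    rw [hdim] at this
    show (IsLocalRing.maximalIdeal R).height = 2
    exact WithBot.coe_eq_coe.1 (this.trans rfl)
  have hne : ∀ p ∈ s, ∃ x : R, x ∈ p ∧ x ≠ 0 := fun p hp =>
    Submodule.exists_mem_ne_zero_of_ne_bot fun h => by
      have := (hs p hp).2
      rw [h, Ideal.height_bot] at this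
      exact zero_ne_one this
  choose x hx hx0 using hne
  let f₀ : R := ∏ p ∈ s.attach, x p.1 p.2
  have hf₀ : f₀ ≠ 0 := Finset.prod_ne_zero_iff.2 fun p _ => hx0 _ _
  have hf₀s : ∀ p ∈ s, f₀ ∈ p := fun p hp =>
    Ideal.mem_of_dvd _ (Finset.dvd_prod_of_mem _ (Finset.mem_attach s ⟨p, hp⟩)) (hx p hp)
  obtain ⟨b, hbm, hb⟩ : ∃ b ∈ m, ∀ q ∈ divSupp f₀, b ∉ (q : PrimeSpectrum R).asIdeal := by
    by_contra hcon
    push Not at hcon
    have hsub : (m : Set R) ⊆ ⋃ q ∈ ((finite_divSupp hf₀).toFinset : Set (PrimeSpectrum R)),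
        (q.asIdeal : Set R) := by
      intro b hb
      obtain ⟨q, hq, hbq⟩ := hcon b hb
      exact Set.mem_biUnion (by simpa using hq) hbq
    obtain ⟨q, hq, hle⟩ :=
      (Ideal.subset_union_prime ⊥ ⊥ (f := fun q : PrimeSpectrum R => q.asIdeal)
        (fun q _ _ _ => q.2)).1 hsub
    have h1 : q.asIdeal.height = 1 := ((finite_divSupp hf₀).mem_toFinset.1 hq).1
    have h2 := Ideal.height_mono hle
    rw [hm, h1] at h2
    norm_num at h2
  let J₀ : Ideal R := Ideal.span {f₀, b}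
  let Good : R → Prop := fun f => f ≠ 0 ∧ (∀ p ∈ s, f ∈ p) ∧ f - f₀ ∈ Ideal.span ({b} : Set R) ∧
    ∀ q ∈ divSupp f, b ∉ (q : PrimeSpectrum R).asIdeal
  let Φ : R → Ideal R := fun f => Ideal.span {b} ⊔ ⨅ q ∈ divSupp f, (q : PrimeSpectrum R).asIdeal
  haveI : IsArtinianRing (R ⧸ J₀) := by
    rw [isArtinianRing_iff_isNoetherianRing_krullDimLE_zero]
    refine ⟨inferInstance, Ring.KrullDimLE.mk₀ fun P hP => ?_⟩
    let P' := P.comap (Ideal.Quotient.mk J₀)
    haveI : P'.IsPrime := Ideal.comap_isPrime _ _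
    have hJ : J₀ ≤ P' := fun y hy => by
      rw [Ideal.mem_comap, Ideal.Quotient.eq_zero_iff_mem.2 hy]; exact zero_mem _
    have hP'm : P' = m := by
      refine (IsLocalRing.le_maximalIdeal (Ideal.IsPrime.ne_top')).antisymm ?_
      by_contra hlt
      have hlt' : P' < m := lt_of_le_not_ge (IsLocalRing.le_maximalIdeal (Ideal.IsPrime.ne_top')) hlt
      have h0 := Ideal.height_strict_mono_of_isPrime_of_isPrime hlt'
      rw [hm] at h0
      have hf' : f₀ ∈ P' := hJ (Ideal.subset_span (by simp))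
      have h1 : P'.height = 1 := by
        refine le_antisymm (Order.le_of_lt_add_one (by rwa [one_add_one_eq_two])) ?_
        refine Order.one_le_iff_ne_zero.2 fun h => hf₀ ?_
        rw [Ideal.height_eq_zero_iff_eq_bot] at h
        exact Ideal.mem_bot.1 (h ▸ hf')
      exact hb ⟨P', inferInstance⟩ ⟨h1, hf'⟩ (hJ (Ideal.subset_span (by simp)))
    have : P = P'.map (Ideal.Quotient.mk J₀) :=
      (Ideal.map_comap_of_surjective _ Ideal.Quotient.mk_surjective P).symm
    rw [this, hP'm]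
    exact (Ideal.map_eq_top_or_isMaximal_of_surjective _ Ideal.Quotient.mk_surjective
      (IsLocalRing.maximalIdeal.isMaximal R)).resolve_left (by rw [← show P' = IsLocalRing.maximalIdeal R from hP'm, ← this]; exact hP.ne_top)
  obtain ⟨-, ⟨f, hfGood, rfl⟩, hmin⟩ := IsArtinian.set_has_minimal
    ((fun f => Ideal.map (Ideal.Quotient.mk J₀) (Φ f)) '' {f | Good f})
    ⟨_, ⟨f₀, ⟨hf₀, hf₀s, by simp, hb⟩, rfl⟩⟩
  obtain ⟨hf, hfs, hfb, hbf⟩ := hfGood
  by_cases hsimp : ∀ q ∈ divSupp f, f ∉ symSq (q : PrimeSpectrum R).asIdeal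
  · exact ⟨f, hf, hfs, isReduced_quotient hf hsimp⟩
  push Not at hsimp
  obtain ⟨q₁, hq₁, -⟩ := hsimp
  let S := (finite_divSupp hf).toFinset
  have hmemS : ∀ {q}, q ∈ S ↔ q ∈ divSupp f := (finite_divSupp hf).mem_toFinset
  have hchoose : ∀ q ∈ S, ∃ y : R, y ∈ q.asIdeal ∧ y ∉ symSq q.asIdeal := fun q hq =>
    SetLike.not_le_iff_exists.1 (not_le_symSq fun h => by
      have := (hmemS.1 hq).1
      rw [h, Ideal.height_bot] at this
      exact zero_ne_one this)
  choose y hy hy' using hchoose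
  have hsep : ∀ q ∈ S, ∀ q' ∈ S, q' ≠ q → ∃ z : R, z ∈ q'.asIdeal ∧ z ∉ q.asIdeal :=
    fun q hq q' hq' hne' => SetLike.not_le_iff_exists.1 fun hle => hne' (PrimeSpectrum.ext
      (eq_of_le_of_height_one (hmemS.1 hq').1 (hmemS.1 hq).1 hle))
  choose z hz hz' using hsep
  let bad := S.filter fun q => f ∈ symSq q.asIdeal
  let term : ∀ q ∈ S, R := fun q hq =>
    y q hq * ∏ q' ∈ (S.erase q).attach,
      z q hq q'.1 (Finset.mem_of_mem_erase q'.2) (Finset.ne_of_mem_erase q'.2) ^ 2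
  let h : R := ∑ q ∈ bad.attach, term q.1 (Finset.mem_of_mem_filter q.1 q.2)
  have hterm_mem : ∀ q hq, ∀ q' ∈ S, q' ≠ q → term q hq ∈ symSq q'.asIdeal := by
    intro q hq q' hq' hne'
    refine Ideal.mul_mem_left _ _ (Ideal.mem_of_dvd _ (Finset.dvd_prod_of_mem _
      (Finset.mem_attach _ ⟨q', Finset.mem_erase.2 ⟨hne', hq'⟩⟩)) (sq_mem_symSq (hz q hq q' hq' hne')))
  have hterm_self : ∀ q hq, term q hq ∈ q.asIdeal ∧ term q hq ∉ symSq q.asIdeal := by
    intro q hq
    refine ⟨Ideal.mul_mem_right _ _ (hy q hq), fun hc => hy' q hq ?_⟩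
    rw [show term q hq = _ * y q hq from mul_comm _ _, mul_mem_symSq_iff] at hc
    · exact hc
    · intro hp
      obtain ⟨q', -, hq'⟩ := (q.2.prod_mem_iff).1 hp
      exact hz' q hq q'.1 _ _ (q.2.mem_of_pow_mem 2 hq')
  have hhq : ∀ q ∈ S, h ∈ q.asIdeal := fun q hq => Ideal.sum_mem _ fun r _ => by
    by_cases hrq : q = r.1
    · subst hrq; exact (hterm_self _ _).1
    · exact symSq_le _ (hterm_mem _ _ q hq hrq)
  have hgood : ∀ q ∈ S, f ∉ symSq q.asIdeal → h ∈ symSq q.asIdeal := fun q hq hnb =>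
    Ideal.sum_mem _ fun r _ => hterm_mem _ _ q hq fun hrq =>
      hnb (hrq ▸ (Finset.mem_filter.1 r.2).2)
  have hbad' : ∀ q ∈ S, f ∈ symSq q.asIdeal → h ∉ symSq q.asIdeal := by
    intro q hq hqb hh
    have hqm : q ∈ bad := Finset.mem_filter.2 ⟨hq, hqb⟩
    have hsum : (∑ r ∈ bad.attach.erase ⟨q, hqm⟩, term r.1 (Finset.mem_of_mem_filter r.1 r.2)) ∈
        symSq q.asIdeal := Ideal.sum_mem _ fun r hr => hterm_mem _ _ q hq fun hrq =>
      (Finset.mem_erase.1 hr).1 (Subtype.ext hrq.symm)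
    refine (hterm_self q hq).2 ?_
    have heq := Finset.add_sum_erase bad.attach
      (fun r => term r.1 (Finset.mem_of_mem_filter r.1 r.2)) (Finset.mem_attach _ ⟨q, hqm⟩)
    rw [show h = _ from heq.symm] at hh
    exact (Ideal.add_mem_iff_left _ hsum).1 hh
  let f' := f + b * h
  have hnew : ∀ q ∈ S, f' ∈ q.asIdeal ∧ f' ∉ symSq q.asIdeal := by
    intro q hq
    refine ⟨add_mem (hmemS.1 hq).2 (Ideal.mul_mem_left _ _ (hhq q hq)), fun hc => ?_⟩
    by_cases hqb : f ∈ symSq q.asIdeal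
    · exact hbad' q hq hqb ((mul_mem_symSq_iff (hbf q (hmemS.1 hq))).1
        ((Ideal.add_mem_iff_right _ hqb).1 hc))
    · exact hqb ((Ideal.add_mem_iff_left _ (Ideal.mul_mem_left _ b (hgood q hq hqb))).1 hc)
  have hq₁S : q₁ ∈ S := hmemS.2 hq₁
  have hf'0 : f' ≠ 0 := fun h0 => (hnew q₁ hq₁S).2 (by rw [h0]; exact zero_mem _)
  have hsub : ∀ q ∈ S, q ∈ divSupp f' := fun q hq => ⟨(hmemS.1 hq).1, (hnew q hq).1⟩
  have hb' : ∀ q ∈ divSupp f', b ∉ (q : PrimeSpectrum R).asIdeal := by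
    intro q hq hbq
    refine hbf q ⟨hq.1, ?_⟩ hbq
    have := q.asIdeal.sub_mem hq.2 (Ideal.mul_mem_right h _ hbq)
    simpa [f'] using this
  have hGood' : Good f' := by
    refine ⟨hf'0, fun p hp => ?_, ?_, hb'⟩
    · haveI := (hs p hp).1
      exact (hsub ⟨p, inferInstance⟩ (hmemS.2 ⟨(hs p hp).2, hfs p hp⟩)).2
    · rw [show f' - f₀ = (f - f₀) + b * h by ring]
      exact add_mem hfb (Ideal.mul_mem_right _ _ (Ideal.mem_span_singleton_self b))
  -- some prime of `f'` must be new, unless `f'` is reduced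
  have hJ : ∀ g, Good g → J₀ ≤ Φ g := by
    intro g hg
    rw [Ideal.span_le]
    rintro v (hv | hv) <;> rw [hv]
    · have : g ∈ ⨅ q ∈ divSupp g, (q : PrimeSpectrum R).asIdeal :=
        Ideal.mem_iInf.2 fun q => Ideal.mem_iInf.2 fun hq => hq.2
      rw [show f₀ = g - (g - f₀) by ring]
      exact sub_mem (Ideal.mem_sup_right this) (Ideal.mem_sup_left hg.2.2.1)
    · exact Ideal.mem_sup_left (Ideal.mem_span_singleton_self b)
  by_cases hstab : ∃ q₂ ∈ divSupp f', q₂ ∉ S
  · obtain ⟨q₂, hq₂, hq₂S⟩ := hstab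
    have hle : Φ f' ≤ Φ f :=
      sup_le_sup_left (le_iInf fun q => le_iInf fun hq => iInf₂_le q (hsub q (hmemS.2 hq))) _
    exfalso
    refine hmin _ ⟨f', hGood', rfl⟩ (lt_of_le_of_ne (Ideal.map_mono hle) fun heq => ?_)
    have heq' : Φ f' = Φ f := by
      have := congrArg (Ideal.comap (Ideal.Quotient.mk J₀)) heq
      rwa [Ideal.comap_map_quotientMk, Ideal.comap_map_quotientMk,
        sup_eq_right.2 (hJ _ hGood'), sup_eq_right.2 (hJ _ ⟨hf, hfs, hfb, hbf⟩)] at this
    set I := ⨅ q ∈ divSupp f, (q : PrimeSpectrum R).asIdeal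
    set I' := ⨅ q ∈ divSupp f', (q : PrimeSpectrum R).asIdeal
    have hII : I ≤ I' ⊔ m • I := by
      intro v hv
      have : v ∈ Ideal.span {b} ⊔ I' := by
        show v ∈ Φ f'
        rw [heq']
        exact Ideal.mem_sup_right hv
      obtain ⟨c, hc, w, hw, rfl⟩ := Submodule.mem_sup.1 this
      obtain ⟨r, rfl⟩ := Ideal.mem_span_singleton.1 hc
      have hwI : w ∈ I := Ideal.mem_iInf.2 fun q => Ideal.mem_iInf.2 fun hq =>
        Ideal.mem_iInf.1 (Ideal.mem_iInf.1 hw q) (hsub q (hmemS.2 hq))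
      have hr : r ∈ I := Ideal.mem_iInf.2 fun q => Ideal.mem_iInf.2 fun hq => by
        have hbr : b * r ∈ q.asIdeal := by
          have h5 := Ideal.sub_mem q.asIdeal (Ideal.mem_iInf.1 (Ideal.mem_iInf.1 hv q) hq)
            (Ideal.mem_iInf.1 (Ideal.mem_iInf.1 hwI q) hq)
          simpa using h5
        exact (q.2.mem_or_mem hbr).resolve_left (hbf q hq)
      exact add_mem (Submodule.mem_sup_right (Submodule.smul_mem_smul hbm hr)) (Submodule.mem_sup_left hw)
    have hle' : I ≤ I' := Submodule.le_of_le_smul_of_le_jacobson_bot (IsNoetherian.noetherian _)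
      (IsLocalRing.maximalIdeal_le_jacobson _) hII
    have hinf : S.inf (fun q => q.asIdeal) ≤ q₂.asIdeal :=
      (le_iInf fun q => le_iInf fun hq => Finset.inf_le (hmemS.2 hq)).trans
        (hle'.trans (iInf₂_le q₂ hq₂))
    obtain ⟨q, hq, hqle⟩ := (Ideal.IsPrime.inf_le' q₂.2).1 hinf
    exact hq₂S ((PrimeSpectrum.ext (eq_of_le_of_height_one (hmemS.1 hq).1 hq₂.1 hqle)) ▸ hq)
  · push Not at hstab
    exact ⟨f', hf'0, hGood'.2.1, isReduced_quotient hf'0 fun q hq => (hnew q (hstab q hq)).2⟩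

end Groth.Agent.ReducedCutAux
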